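import Groth.Agent.QHomeo.OpenAt
import Mathlib.RingTheory.Etale.QuasiFinite
import Mathlib.RingTheory.Unramified.LocalStructure
import Mathlib.RingTheory.Smooth.Basic
import Mathlib.AlgebraicGeometry.Morphisms.Etale
import Mathlib.AlgebraicGeometry.Morphisms.Finite

/-!
# Finite surjective pieces, étale-locally, of quasi-finite morphisms open at a point
-/

set_option autoImplicit false
set_option linter.style.haveILetI false
set_option backward.isDefEq.respectTransparency.types false

universe u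

open AlgebraicGeometry CategoryTheory Limits TensorProduct

namespace Groth.Agent.QuasiSect

/-- If the residue point of `X` at `h y` lifts to `Y` through `y`, the residue extension at `y` is trivial. -/
theorem isIso_residueFieldMap_of_lift {X Y : Scheme.{u}} (h : Y ⟶ X) (x : X) (y : Y) (hy : h y = x)
    (j : Spec (CommRingCat.of (X.residueField x)) ⟶ Y) (hjy : j (IsLocalRing.closedPoint (X.residueField x)) = y)
    (hj : j ≫ h = X.fromSpecResidueField x) : IsIso (h.residueFieldMap y) := by
  subst hjy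
  set y := j (IsLocalRing.closedPoint (X.residueField x))
  let α : Y.residueField y ⟶ X.residueField x := ((Scheme.SpecToEquivOfField (X.residueField x) Y) j).2
  have hα : Spec.map α ≫ Y.fromSpecResidueField y = j :=
    (Scheme.SpecToEquivOfField (X.residueField x) Y).symm_apply_apply j
  have h1 : Spec.map ((X.residueFieldCongr hy).inv ≫ h.residueFieldMap y ≫ α) ≫ X.fromSpecResidueField x =
      𝟙 _ ≫ X.fromSpecResidueField x := by
    rw [Spec.map_comp, Spec.map_comp, Category.assoc, Category.assoc, Scheme.residueFieldCongr_inv,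
      Scheme.residueFieldCongr_fromSpecResidueField, Scheme.Hom.SpecMap_residueFieldMap_fromSpecResidueField,
      reassoc_of% hα, hj, Category.id_comp]
  have h2 : (X.residueFieldCongr hy).inv ≫ h.residueFieldMap y ≫ α = 𝟙 _ :=
    Spec.map_injective (by rw [Spec.map_id]; exact (cancel_mono (X.fromSpecResidueField x)).1 h1)
  have hb : Function.Bijective α.hom := by
    refine ⟨α.hom.injective, fun a => ⟨h.residueFieldMap y ((X.residueFieldCongr hy).inv a), ?_⟩⟩
    exact congrArg (fun m : X.residueField x ⟶ X.residueField x => m a) h2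
  haveI : IsIso α := (ConcreteCategory.isIso_iff_bijective α).2 hb
  haveI : IsIso (h.residueFieldMap y ≫ α) := by
    have := (Iso.inv_comp_eq _).1 h2
    rw [this]; infer_instance
  exact IsIso.of_isIso_comp_right _ α

variable {R C : Type u} [CommRing R] [CommRing C] [Algebra R C]

/-- The structure morphism. -/
noncomputable abbrev str (R C : Type u) [CommRing R] [CommRing C] [Algebra R C] :
    Spec (CommRingCat.of C) ⟶ Spec (CommRingCat.of R) :=
  Spec.map (CommRingCat.ofHom (algebraMap R C))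

theorem isPullback_tensor (R A B : Type u) [CommRing R] [CommRing A] [CommRing B] [Algebra R A] [Algebra R B] :
    IsPullback (Spec.map (CommRingCat.ofHom (Algebra.TensorProduct.includeRight : B →ₐ[R] A ⊗[R] B).toRingHom))
      (str A (A ⊗[R] B)) (str R B) (str R A) :=
  (isPullback_SpecMap_of_isPushout _ _ _ _ (CommRingCat.isPushout_tensorProduct R A B)).flip

theorem exists_preimage_tensor (R A B : Type u) [CommRing R] [CommRing A] [CommRing B] [Algebra R A] [Algebra R B]
    (a : Spec (CommRingCat.of A)) (b : Spec (CommRingCat.of B)) (h : str R A a = str R B b) :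
    ∃ t : Spec (CommRingCat.of (A ⊗[R] B)), str A (A ⊗[R] B) t = a ∧
      Spec.map (CommRingCat.ofHom (Algebra.TensorProduct.includeRight : B →ₐ[R] A ⊗[R] B).toRingHom) t = b := by
  obtain ⟨w, hw1, hw2⟩ := Scheme.Pullback.exists_preimage_pullback (f := str R B) (g := str R A) b a h.symm
  refine ⟨(isPullback_tensor R A B).isoPullback.inv w, ?_, ?_⟩
  · rw [← Scheme.Hom.comp_apply, IsPullback.isoPullback_inv_snd, hw2]
  · rw [← Scheme.Hom.comp_apply, IsPullback.isoPullback_inv_fst, hw1]

/-- A quasi-finite algebra, universally open at a prime, has étale-locally a finite surjective piece. -/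
theorem exists_piece [Algebra.FinitePresentation R C] [Algebra.QuasiFinite R C]
    (q : Spec (CommRingCat.of C)) (hq : EGA43.IsUnivOpenAt (str R C) q) :
    ∃ (S' S'' : Scheme.{u}) (_ : IsAffine S') (w : S' ⟶ Spec (CommRingCat.of R)) (π : S'' ⟶ S')
      (h : S'' ⟶ Spec (CommRingCat.of C)),
      Etale w ∧ IsFinite π ∧ Surjective π ∧ LocallyOfFinitePresentation π ∧ h ≫ str R C = π ≫ w ∧
      ∃ s'' : S'', (π ≫ w).base ⁻¹' {str R C q} = {s''} ∧ h.base s'' = q ∧ IsIso (h.residueFieldMap s'') := by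
  let p : Ideal R := (str R C q).asIdeal
  haveI : q.asIdeal.LiesOver p := ⟨rfl⟩
  haveI : p.IsPrime := (str R C q).isPrime
  haveI : Algebra.QuasiFiniteAt R q.asIdeal := inferInstance
  obtain ⟨R', _, _, _, P, _, _, e, he, P', _, _, hP'q, heP', hPbij, hfin, huniq⟩ :=
    Algebra.exists_etale_isIdempotentElem_forall_liesOver_eq p q.asIdeal
  let M := R' ⊗[R] C
  let Pt : Spec (CommRingCat.of R') := ⟨P, inferInstance⟩
  let Pt' : Spec (CommRingCat.of M) := ⟨P', inferInstance⟩
  have hPt' : str R' M Pt' = Pt := PrimeSpectrum.ext (Ideal.over_def P' P).symm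
  have hPtp : str R R' Pt = str R C q := PrimeSpectrum.ext (Ideal.over_def P p).symm
  -- the image of `D(e)` is a neighbourhood of `P`
  have hopen : EGA43.IsOpenAt (str R' M).base Pt' :=
    QHomeo.univOpenAt_openAt hq (isPullback_tensor R R' C) Pt' (PrimeSpectrum.ext hP'q)
  have hnhds := hopen (PrimeSpectrum.basicOpen e : Set (PrimeSpectrum M))
    ((PrimeSpectrum.basicOpen e).2.mem_nhds heP')
  rw [hPt'] at hnhds
  obtain ⟨O, hOsub, hO, hPO⟩ := mem_nhds_iff.1 hnhds
  -- `P` is isolated in its fibre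
  have hdisc := Algebra.QuasiFinite.isDiscrete_comap_preimage_singleton (R := R) (S := R')
    (PrimeSpectrum.comap (algebraMap R R') Pt)
  obtain ⟨W, hW, hWP⟩ : ∃ W : Set (PrimeSpectrum R'), IsOpen W ∧
      W ∩ PrimeSpectrum.comap (algebraMap R R') ⁻¹' {PrimeSpectrum.comap (algebraMap R R') Pt} = {(Pt : PrimeSpectrum R')} := by
    haveI := hdisc.1
    obtain ⟨W, hW, hWe⟩ := isOpen_induced_iff.1 (isOpen_discrete
      ({⟨Pt, rfl⟩} : Set ↥(PrimeSpectrum.comap (algebraMap R R') ⁻¹' {PrimeSpectrum.comap (algebraMap R R') Pt})))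
    refine ⟨W, hW, Set.Subset.antisymm ?_ ?_⟩
    · rintro Q ⟨h1, h2⟩
      have h3 : (⟨Q, h2⟩ : ↥(PrimeSpectrum.comap (algebraMap R R') ⁻¹' _)) ∈ Subtype.val ⁻¹' W := h1
      rw [hWe, Set.mem_singleton_iff] at h3
      exact congrArg Subtype.val h3
    · rintro Q rfl
      exact ⟨(hWe.symm.le (Set.mem_singleton _) : (⟨Pt, rfl⟩ : ↥(PrimeSpectrum.comap (algebraMap R R') ⁻¹' _)) ∈ Subtype.val ⁻¹' W), rfl⟩
  have hPW : (Pt : PrimeSpectrum R') ∈ W := (hWP.symm.le (Set.mem_singleton _)).1
  obtain ⟨_, ⟨f, rfl⟩, hfP, hfsub⟩ := PrimeSpectrum.isTopologicalBasis_basic_opens.exists_subset_of_mem_open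
    (show (Pt : PrimeSpectrum R') ∈ (O : Set (PrimeSpectrum R')) ∩ W from ⟨hPO, hPW⟩) (hO.inter hW)
  -- the rings
  let R'' := Localization.Away f
  let Me := Localization.Away e
  haveI : Module.Finite R' Me := hfin
  haveI : Algebra.FinitePresentation R' M := inferInstance
  haveI : Algebra.FinitePresentation M Me := inferInstance
  haveI : Algebra.FinitePresentation R' Me := Algebra.FinitePresentation.trans R' M Me
  let C'' := R'' ⊗[R'] Me
  let ιR : Spec (CommRingCat.of R'') ⟶ Spec (CommRingCat.of R') := str R' R''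
  let ιM : Spec (CommRingCat.of C'') ⟶ Spec (CommRingCat.of Me) :=
    Spec.map (CommRingCat.ofHom (Algebra.TensorProduct.includeRight : Me →ₐ[R'] C'').toRingHom)
  haveI : IsOpenImmersion ιR := IsOpenImmersion.of_isLocalization f
  haveI : IsOpenImmersion ιM := MorphismProperty.of_isPullback (isPullback_tensor R' R'' Me).flip inferInstance
  haveI : IsOpenImmersion (str M Me) := IsOpenImmersion.of_isLocalization e
  let cM : Spec (CommRingCat.of M) ⟶ Spec (CommRingCat.of C) :=
    Spec.map (CommRingCat.ofHom (Algebra.TensorProduct.includeRight : C →ₐ[R] M).toRingHom)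
  let π := str R'' C''
  let h := ιM ≫ str M Me ≫ cM
  have hrange : Set.range ιR = (PrimeSpectrum.basicOpen f : Set (PrimeSpectrum R')) :=
    PrimeSpectrum.localization_away_comap_range R'' f
  have hrangeM : Set.range (str M Me) = (PrimeSpectrum.basicOpen e : Set (PrimeSpectrum M)) :=
    PrimeSpectrum.localization_away_comap_range Me e
  have hMe : str R' Me = str M Me ≫ str R' M := by
    rw [← Spec.map_comp, ← CommRingCat.ofHom_comp, ← IsScalarTower.algebraMap_eq]
  have hπ : π ≫ ιR = ιM ≫ str M Me ≫ str R' M := by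
    rw [← hMe]
    exact (isPullback_tensor R' R'' Me).w.symm
  have hMw : str R' M ≫ str R R' = cM ≫ str R C := (isPullback_tensor R R' C).w.symm
  refine ⟨_, _, inferInstance, ιR ≫ str R R', π, h, ?_, ?_, ?_, ?_, ?_, ?_⟩
  · haveI : Etale (str R R') := HasRingHomProperty.Spec_iff.mpr (RingHom.etale_algebraMap.mpr inferInstance)
    infer_instance
  · exact (IsFinite.SpecMap_iff _).mpr (RingHom.finite_algebraMap.mpr inferInstance)
  · refine ⟨fun a => ?_⟩
    obtain ⟨m, hme, hma⟩ := hOsub (hfsub (hrange.le ⟨a, rfl⟩)).1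
    obtain ⟨b, hb⟩ : m ∈ Set.range (str M Me) := hrangeM.ge hme
    obtain ⟨t, ht, -⟩ := exists_preimage_tensor R' R'' Me a b (by
      rw [hMe, Scheme.Hom.comp_apply, hb]; exact hma.symm)
    exact ⟨t, ht⟩
  · exact HasRingHomProperty.Spec_iff.mpr (RingHom.finitePresentation_algebraMap.mpr inferInstance)
  · simp only [h, Category.assoc, ← hMw, reassoc_of% hπ]
  -- the point over `p`
  obtain ⟨a₀, ha₀⟩ : Pt ∈ Set.range ιR := hrange.ge hfP
  obtain ⟨b₀, hb₀⟩ : Pt' ∈ Set.range (str M Me) := hrangeM.ge heP'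
  obtain ⟨t₀, ht₀, ht₀'⟩ := exists_preimage_tensor R' R'' Me a₀ b₀ (by
    rw [hMe, Scheme.Hom.comp_apply, hb₀, hPt']; exact ha₀)
  have hht₀ : h t₀ = q := by
    show (ιM ≫ str M Me ≫ cM) t₀ = q
    rw [Scheme.Hom.comp_apply, Scheme.Hom.comp_apply, show ιM t₀ = b₀ from ht₀', hb₀]
    exact PrimeSpectrum.ext hP'q
  refine ⟨t₀, ?_, hht₀, ?_⟩
  · refine Set.Subset.antisymm (fun t ht => ?_) ?_
    · have h1 : ιR (π t) = Pt := by
        have h2 : ιR (π t) ∈ W := (hfsub (hrange.le ⟨π t, rfl⟩)).2
        have h3 : str R R' (ιR (π t)) = str R R' Pt := by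
          rw [hPtp, ← Scheme.Hom.comp_apply, ← Scheme.Hom.comp_apply]; exact ht
        exact hWP.le ⟨h2, h3⟩
      have h4 : str M Me (ιM t) = Pt' := by
        have h5 : str R' M (str M Me (ιM t)) = Pt := by
          rw [← h1, ← Scheme.Hom.comp_apply, ← Scheme.Hom.comp_apply, ← Scheme.Hom.comp_apply, hπ]
        have h6 : str M Me (ιM t) ∈ (PrimeSpectrum.basicOpen e : Set (PrimeSpectrum M)) := hrangeM.le ⟨_, rfl⟩
        exact PrimeSpectrum.ext (huniq _ (str M Me (ιM t)).isPrime ⟨(congrArg PrimeSpectrum.asIdeal h5).symm⟩ h6)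
      exact ιM.isOpenEmbedding.injective ((str M Me).isOpenEmbedding.injective (by rw [h4, show ιM t₀ = b₀ from ht₀', hb₀]))
    · intro a ha
      rw [Set.mem_singleton_iff.1 ha]
      show (π ≫ ιR ≫ str R R') t₀ = str R C q
      rw [Scheme.Hom.comp_apply, Scheme.Hom.comp_apply, show π t₀ = a₀ from ht₀, ha₀, hPtp]
  -- the residue point lifts
  let Ω := q.asIdeal.ResidueField
  let bp := RingEquiv.ofBijective _ hPbij
  let κq := Ideal.ResidueField.mapₐ p q.asIdeal (Algebra.ofId R C) (q.asIdeal.over_def p)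
  let θ : R' →+* Ω := κq.toRingHom.comp (bp.symm.toRingHom.comp (algebraMap R' P.ResidueField))
  have hθ : ∀ r, θ (algebraMap R R' r) = algebraMap R Ω r := fun r => by
    show κq (bp.symm (algebraMap R' P.ResidueField (algebraMap R R' r))) = _
    rw [← IsScalarTower.algebraMap_apply, show algebraMap R P.ResidueField r = bp (algebraMap R p.ResidueField r) from
      ((Ideal.ResidueField.mapₐ p P (Algebra.ofId _ _) (P.over_def p)).commutes r).symm, RingEquiv.symm_apply_apply]
    exact κq.commutes r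
  have hθk : ∀ r', θ r' = 0 ↔ r' ∈ P := fun r' => by
    show κq (bp.symm (algebraMap R' P.ResidueField r')) = 0 ↔ _
    rw [map_eq_zero, map_eq_zero, Ideal.algebraMap_residueField_eq_zero]
  let θa : R' →ₐ[R] Ω := { θ with commutes' := hθ }
  let Φ : M →ₐ[R] Ω := Algebra.TensorProduct.lift θa (IsScalarTower.toAlgHom R C Ω) fun _ _ => Commute.all _ _
  have hΦP : RingHom.ker Φ.toRingHom = P' := by
    haveI : (RingHom.ker Φ.toRingHom).IsPrime := RingHom.ker_isPrime _
    haveI : (RingHom.ker Φ.toRingHom).LiesOver P := ⟨by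
      ext r'
      rw [Ideal.mem_comap, RingHom.mem_ker, Algebra.TensorProduct.algebraMap_apply]
      show r' ∈ P ↔ Φ (algebraMap R' R' r' ⊗ₜ[R] (1 : C)) = 0
      rw [Algebra.TensorProduct.lift_tmul, map_one, _root_.mul_one]
      exact (hθk r').symm⟩
    refine Ideal.eq_of_comap_eq_comap_of_bijective_residueFieldMap hPbij _ _ ?_
    rw [hP'q]
    ext c
    rw [Ideal.mem_comap, RingHom.mem_ker]
    show Φ ((1 : R') ⊗ₜ[R] c) = 0 ↔ _
    rw [Algebra.TensorProduct.lift_tmul, map_one, _root_.one_mul]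
    exact Ideal.algebraMap_residueField_eq_zero
  have hΦe : IsUnit (Φ.toRingHom e) := isUnit_iff_ne_zero.2 fun h0 => heP' (hΦP.le h0)
  let Φe : Me →+* Ω := IsLocalization.Away.lift e hΦe
  have hΦec : Φe.comp (algebraMap M Me) = Φ.toRingHom := IsLocalization.Away.lift_comp e hΦe
  let θf : R'' →+* Ω := IsLocalization.Away.lift f (isUnit_iff_ne_zero.2 fun h0 => hfP ((hθk f).1 h0))
  have hθf : θf.comp (algebraMap R' R'') = θ := IsLocalization.Away.lift_comp f _
  letI : Algebra R' Ω := θ.toAlgebra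
  let θfa : R'' →ₐ[R'] Ω := { θf with commutes' := fun r => congrArg (fun g : R' →+* Ω => g r) hθf }
  have hΦer : ∀ r, Φe (algebraMap R' Me r) = θ r := fun r => by
    show Φe (algebraMap R' Me r) = θ r
    rw [IsScalarTower.algebraMap_apply R' M Me, ← RingHom.comp_apply, hΦec, Algebra.TensorProduct.algebraMap_apply]
    show Φ (algebraMap R' R' r ⊗ₜ[R] (1 : C)) = _
    rw [Algebra.TensorProduct.lift_tmul, map_one, _root_.mul_one]
    rfl
  let Φea : Me →ₐ[R'] Ω := { Φe with commutes' := hΦer }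
  let Φ'' : C'' →ₐ[R'] Ω := Algebra.TensorProduct.lift θfa Φea fun _ _ => Commute.all _ _
  let jΩ : Spec (CommRingCat.of Ω) ⟶ Spec (CommRingCat.of C'') := Spec.map (CommRingCat.ofHom Φ''.toRingHom)
  let j : Spec (CommRingCat.of ((Spec (CommRingCat.of C)).residueField q)) ⟶ Spec (CommRingCat.of C'') :=
    Spec.map (Scheme.Spec.residueFieldIso _ q).inv ≫ jΩ
  have hj : j ≫ h = (Spec (CommRingCat.of C)).fromSpecResidueField q := by
    rw [← Scheme.Spec.map_residueFieldIso_inv_eq_fromSpecResidueField]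
    show (_ ≫ jΩ) ≫ h = _
    rw [Category.assoc]
    congr 1
    simp only [jΩ, h, ιM, cM, ← Spec.map_comp]
    congr 1
    refine CommRingCat.hom_ext (RingHom.ext fun c => ?_)
    show Φ'' ((1 : R'') ⊗ₜ[R'] algebraMap M Me ((1 : R') ⊗ₜ[R] c)) = algebraMap C Ω c
    rw [Algebra.TensorProduct.lift_tmul, map_one, _root_.one_mul]
    show Φe (algebraMap M Me _) = _
    rw [← RingHom.comp_apply, hΦec]
    show Φ ((1 : R') ⊗ₜ[R] c) = _
    rw [Algebra.TensorProduct.lift_tmul, map_one, _root_.one_mul]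
    rfl
  refine isIso_residueFieldMap_of_lift h q t₀ hht₀ j ?_ hj
  -- uniqueness of the point
  set t := j (IsLocalRing.closedPoint _) with ht
  have h1 : str M Me (ιM t) = Pt' := by
    have h2 : jΩ ≫ ιM ≫ str M Me = Spec.map (CommRingCat.ofHom Φ.toRingHom) := by
      simp only [jΩ, ιM, ← Spec.map_comp]
      congr 1
      refine CommRingCat.hom_ext (RingHom.ext fun a => ?_)
      show Φ'' ((1 : R'') ⊗ₜ[R'] algebraMap M Me a) = Φ a
      rw [Algebra.TensorProduct.lift_tmul, map_one, _root_.one_mul]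
      exact congrArg (fun g : M →+* Ω => g a) hΦec
    rw [ht, ← Scheme.Hom.comp_apply, ← Scheme.Hom.comp_apply]
    simp only [j, Category.assoc]
    rw [h2, Scheme.Hom.comp_apply]
    refine PrimeSpectrum.ext (Eq.trans ?_ hΦP)
    show Ideal.comap Φ.toRingHom _ = RingHom.ker Φ.toRingHom
    rw [RingHom.ker_eq_comap_bot]
    congr 1
    exact (Ideal.eq_bot_or_top _).resolve_right (Ideal.IsPrime.ne_top inferInstance)
  exact ιM.isOpenEmbedding.injective ((str M Me).isOpenEmbedding.injective (by rw [h1, show ιM t₀ = b₀ from ht₀', hb₀]))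

end Groth.Agent.QuasiSect
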