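import Groth.Agent.FibDim.Alg
import Mathlib.RingTheory.RingHom.QuasiFinite
import Mathlib.RingTheory.Jacobson.Ring
import Mathlib.RingTheory.Algebraic.Integral
import Mathlib.RingTheory.Polynomial.Basic

/-!
# Parameters at a closed point of a fibre

If `P` is a point of `Spec B` closed in its fibre over `Spec R`, of dimension `m`, there are `m` elements of `P`
making some `B_g`, `g ∉ P`, quasi-finite over a polynomial ring in `m` variables.
-/

set_option autoImplicit false
set_option linter.style.haveILetI false

universe u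

open TensorProduct

namespace Groth.Agent.QuasiSect

variable {R B : Type u} [CommRing R] [CommRing B] [Algebra R B]

/-- Substituting monic polynomials for the variables is finite. -/
theorem finite_substitute {m : ℕ} (p : Fin m → Polynomial R) (hp : ∀ i, (p i).Monic)
    (hdeg : ∀ i, (p i).natDegree ≠ 0) :
    (MvPolynomial.aeval (R := R) fun i => Polynomial.aeval (MvPolynomial.X (R := R) i) (p i)).toRingHom.Finite := by
  set π := MvPolynomial.aeval (R := R) fun i => Polynomial.aeval (MvPolynomial.X (R := R) i) (p i) with hπ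
  refine RingHom.IsIntegral.to_finite ?_ ?_
  · intro F
    induction F using MvPolynomial.induction_on with
    | C r =>
      exact ⟨Polynomial.X - Polynomial.C (MvPolynomial.C r), Polynomial.monic_X_sub_C _, by simp [hπ]⟩
    | add F G hF hG => exact RingHom.IsIntegralElem.add _ hF hG
    | mul_X F i hF =>
      refine RingHom.IsIntegralElem.mul _ hF ?_
      refine ⟨(p i).map MvPolynomial.C - Polynomial.C (MvPolynomial.X i), ?_, ?_⟩
      · refine ((hp i).map _).sub_of_left ?_
        refine lt_of_le_of_lt Polynomial.degree_C_le ?_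
        rw [Polynomial.degree_map_eq_of_injective (MvPolynomial.C_injective _ _)]
        exact Polynomial.natDegree_pos_iff_degree_pos.1 (Nat.pos_of_ne_zero (hdeg i))
      · rw [Polynomial.eval₂_sub, Polynomial.eval₂_map, Polynomial.eval₂_C]
        have e : π.toRingHom.comp MvPolynomial.C = algebraMap R (MvPolynomial (Fin m) R) := π.comp_algebraMap
        rw [e]
        simp [hπ, Polynomial.aeval_def]
  · refine RingHom.FiniteType.of_comp_finiteType (f := MvPolynomial.C) ?_
    rw [show π.toRingHom.comp MvPolynomial.C = algebraMap R (MvPolynomial (Fin m) R) from π.comp_algebraMap]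
    exact RingHom.finiteType_algebraMap.mpr inferInstance

/-- An element of a finite extension of `κ(p)` has a multiple, by some `d ∉ p`, integral over `R`. -/
theorem exists_monic_smul (p : Ideal R) [p.IsPrime] {F : Type u} [Field F] [Algebra R F] [Algebra p.ResidueField F]
    [IsScalarTower R p.ResidueField F] [Module.Finite p.ResidueField F] (y : F) :
    ∃ (d : R) (q : Polynomial R), d ∉ p ∧ q.Monic ∧ Polynomial.aeval (d • y) q = 0 := by
  letI algF : Algebra (R ⧸ p) F :=
    ((algebraMap p.ResidueField F).comp (algebraMap (R ⧸ p) p.ResidueField)).toAlgebra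
  haveI : IsScalarTower (R ⧸ p) p.ResidueField F := IsScalarTower.of_algebraMap_eq' rfl
  haveI : IsScalarTower R (R ⧸ p) F := IsScalarTower.of_algebraMap_eq fun r =>
    (IsScalarTower.algebraMap_apply R p.ResidueField F r).trans
      (congrArg (algebraMap p.ResidueField F) (IsScalarTower.algebraMap_apply R (R ⧸ p) p.ResidueField r))
  have halg : IsAlgebraic (R ⧸ p) y :=
    (IsFractionRing.isAlgebraic_iff (R ⧸ p) p.ResidueField F).2 (IsIntegral.of_finite p.ResidueField y).isAlgebraic
  obtain ⟨d', hd', hint⟩ := halg.exists_integral_multiple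
  obtain ⟨d, rfl⟩ := Ideal.Quotient.mk_surjective d'
  obtain ⟨q', hq', hq0⟩ := hint
  obtain ⟨q, hq, -, hqm⟩ := Polynomial.lifts_and_degree_eq_and_monic
    (Polynomial.map_surjective _ Ideal.Quotient.mk_surjective q') hq'
  refine ⟨d, q, fun h => hd' (Ideal.Quotient.eq_zero_iff_mem.2 h), hqm, ?_⟩
  rw [← IsScalarTower.algebraMap_smul (R ⧸ p) d y, ← Polynomial.aeval_map_algebraMap (R ⧸ p)]
  rw [← hq] at hq0
  simpa [Polynomial.aeval_def, Ideal.Quotient.algebraMap_eq] using hq0

variable [Algebra.FiniteType R B]

/-- Parameters at a point closed in its fibre. -/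
theorem exists_parameters (P : PrimeSpectrum B) {m : ℕ}
    (hmax : ∀ Q : PrimeSpectrum B, P.asIdeal ≤ Q.asIdeal →
      PrimeSpectrum.comap (algebraMap R B) Q = PrimeSpectrum.comap (algebraMap R B) P → Q = P)
    (hdim : ringKrullDim ((PrimeSpectrum.comap (algebraMap R B) P).asIdeal.Fiber B) = m) :
    ∃ (c : Fin m → B) (g : B), (∀ i, c i ∈ P.asIdeal) ∧ g ∉ P.asIdeal ∧
      ((algebraMap B (Localization.Away g)).comp (MvPolynomial.aeval (R := R) c).toRingHom).QuasiFinite := by
  obtain ⟨m', -, b, g, hm', -, hg, hqf⟩ := FibDim.exists_quasiFinite (A := R) P m hdim.le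
  obtain rfl : m' = m := by rw [hdim] at hm'; exact_mod_cast hm'.symm
  replace hqf : ((algebraMap B (Localization.Away g)).comp (MvPolynomial.aeval (R := R) b).toRingHom).QuasiFinite := by
    letI := (MvPolynomial.aeval (R := R) b).toRingHom.toAlgebra
    haveI := hqf
    rw [show ((algebraMap B (Localization.Away g)).comp (MvPolynomial.aeval (R := R) b).toRingHom) =
      algebraMap (MvPolynomial (Fin m') R) (Localization.Away g) from
        (IsScalarTower.algebraMap_eq (MvPolynomial (Fin m') R) B (Localization.Away g)).symm]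
    exact RingHom.quasiFinite_algebraMap.mpr hqf
  -- the residue field at `P` is algebraic over that of `p`
  set p := (PrimeSpectrum.comap (algebraMap R B) P).asIdeal with hp
  haveI : P.asIdeal.LiesOver p := ⟨rfl⟩
  let P₀ : PrimeSpectrum (p.Fiber B) :=
    PrimeSpectrum.preimageHomeomorphFiber R B ⟨p, inferInstance⟩ ⟨P, rfl⟩
  have hP₀ : P₀.asIdeal.IsMaximal := by
    obtain ⟨M, hM, hle⟩ := P₀.asIdeal.exists_le_maximal P₀.isPrime.ne_top
    let e := PrimeSpectrum.preimageOrderIsoFiber R B ⟨p, inferInstance⟩
    let Q := e.symm ⟨M, hM.isPrime⟩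
    have h1 : (⟨P, rfl⟩ : ↥(PrimeSpectrum.comap (algebraMap R B) ⁻¹' {⟨p, inferInstance⟩})) ≤ Q :=
      e.le_symm_apply.2 hle
    have h2 : Q.1 = P := hmax _ h1 Q.2
    have h3 : e ⟨P, rfl⟩ = (⟨M, hM.isPrime⟩ : PrimeSpectrum (p.Fiber B)) := by
      rw [← show Q = ⟨P, rfl⟩ from Subtype.ext h2]
      exact e.apply_symm_apply _
    rw [show P₀ = e ⟨P, rfl⟩ from rfl, h3]
    exact hM
  letI : Field (p.Fiber B ⧸ P₀.asIdeal) := Ideal.Quotient.field _
  haveI : Module.Finite p.ResidueField (p.Fiber B ⧸ P₀.asIdeal) :=
    finite_of_finite_type_of_isJacobsonRing p.ResidueField _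
  have hker : ∀ y : B, Ideal.Quotient.mk P₀.asIdeal ((1 : p.ResidueField) ⊗ₜ[R] y) = 0 → y ∈ P.asIdeal := by
    intro y hy
    rw [Ideal.Quotient.eq_zero_iff_mem] at hy
    have h1 : PrimeSpectrum.comap (Algebra.TensorProduct.includeRight (R := R)
          (A := p.ResidueField) (B := B)).toRingHom P₀ = P :=
      congrArg (fun z => z.1) ((PrimeSpectrum.preimageHomeomorphFiber R B ⟨p, inferInstance⟩).symm_apply_apply ⟨P, rfl⟩)
    rw [← h1]
    exact hy
  have hint : ∀ i, ∃ (d : R) (q : Polynomial R), d ∉ p ∧ q.Monic ∧
      Polynomial.aeval (d • b i) q ∈ P.asIdeal := by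
    intro i
    let φ : B →ₐ[R] p.Fiber B ⧸ P₀.asIdeal :=
      (Ideal.Quotient.mkₐ R P₀.asIdeal).comp Algebra.TensorProduct.includeRight
    obtain ⟨d, q, hd, hqm, hq⟩ := exists_monic_smul p (φ (b i))
    refine ⟨d, q, hd, hqm, hker _ ?_⟩
    show φ (Polynomial.aeval (d • b i) q) = 0
    rw [← Polynomial.aeval_algHom_apply, map_smul]
    exact hq
  choose d q hd hqm hqP using hint
  refine ⟨fun i => Polynomial.aeval (d i • b i) (q i), g * algebraMap R B (∏ i, d i), hqP, ?_, ?_⟩
  · refine fun h => (P.isPrime.mem_or_mem h).elim hg fun h' => ?_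
    obtain ⟨i, -, hi⟩ := (Ideal.IsPrime.prod_mem_iff (s := Finset.univ) (x := d)
      (p := p)).1 h'
    exact hd i hi
  let D := ∏ i, d i
  let g' := g * algebraMap R B D
  let B' := Localization.Away g'
  let T := MvPolynomial (Fin m') R
  let A := Localization.Away (MvPolynomial.C D : T)
  have hgu : IsUnit (algebraMap B B' g) := by
    have := IsLocalization.Away.algebraMap_isUnit (S := B') g'
    rw [map_mul] at this
    exact isUnit_of_mul_isUnit_left this
  have hDu : IsUnit (algebraMap R B' D) := by
    have := IsLocalization.Away.algebraMap_isUnit (S := B') g'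
    rw [map_mul, ← IsScalarTower.algebraMap_apply] at this
    exact isUnit_of_mul_isUnit_right this
  -- old parameters into `B'`
  have hold : ((algebraMap B B').comp (MvPolynomial.aeval (R := R) b).toRingHom).QuasiFinite := by
    let j : Localization.Away g →+* B' := IsLocalization.Away.lift g hgu
    have hj : j.comp (algebraMap B (Localization.Away g)) = algebraMap B B' := IsLocalization.Away.lift_comp g hgu
    rw [← hj, RingHom.comp_assoc]
    refine RingHom.QuasiFinite.comp ?_ hqf
    refine RingHom.QuasiFinite.of_comp (g := algebraMap B (Localization.Away g)) ?_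
    rw [hj]
    exact RingHom.QuasiFinite.holdsForLocalizationAway (R := B) B' g'
  have hA : IsUnit ((algebraMap B B').comp (MvPolynomial.aeval (R := R) b).toRingHom (MvPolynomial.C D)) := by
    simpa [← IsScalarTower.algebraMap_apply] using hDu
  let oldA : A →+* B' := IsLocalization.Away.lift _ hA
  have holdA : oldA.QuasiFinite := by
    refine RingHom.QuasiFinite.of_comp (g := algebraMap T A) ?_
    rw [show oldA.comp (algebraMap T A) = _ from IsLocalization.Away.lift_comp _ hA]
    exact hold
  -- the scaling
  let σ : T →+* A := (algebraMap T A).comp (MvPolynomial.aeval (R := R) fun i => d i • MvPolynomial.X i).toRingHom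
  have hσu : IsUnit (σ (MvPolynomial.C D)) := by
    rw [show σ (MvPolynomial.C D) = algebraMap T A (MvPolynomial.C D) from
      congrArg (algebraMap T A) (MvPolynomial.aeval_C _ D)]
    exact IsLocalization.Away.algebraMap_isUnit _
  let σA : A →+* A := IsLocalization.Away.lift _ hσu
  have hσAc : σA.comp (algebraMap T A) = σ := IsLocalization.Away.lift_comp _ hσu
  have hσA : Function.Surjective σA := by
    have hC : ∀ r : R, σA (algebraMap T A (MvPolynomial.C r)) = algebraMap T A (MvPolynomial.C r) := fun r => by
      rw [← RingHom.comp_apply, hσAc]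
      exact congrArg (algebraMap T A) (MvPolynomial.aeval_C _ r)
    have key : ∀ F : T, algebraMap T A F ∈ σA.range := by
      intro F
      induction F using MvPolynomial.induction_on with
      | C r => exact ⟨_, hC r⟩
      | add F G hF hG => rw [map_add]; exact add_mem hF hG
      | mul_X F i hF =>
        rw [map_mul]
        refine mul_mem hF ?_
        have hu : IsUnit (algebraMap T A (MvPolynomial.C (d i))) := by
          refine isUnit_of_dvd_unit (map_dvd _ (map_dvd _ (Finset.dvd_prod_of_mem d (Finset.mem_univ i)))) ?_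
          exact IsLocalization.Away.algebraMap_isUnit (MvPolynomial.C D : T)
        obtain ⟨v, hv⟩ := hu.exists_right_inv
        refine ⟨algebraMap T A (MvPolynomial.X i) * v, ?_⟩
        have h1 : algebraMap T A (MvPolynomial.C (d i)) * σA v = 1 := by
          rw [← hC, ← map_mul, hv, map_one]
        rw [map_mul, ← RingHom.comp_apply, hσAc]
        rw [show σ (MvPolynomial.X i) = algebraMap T A (d i • MvPolynomial.X i) from
          congrArg (algebraMap T A) (MvPolynomial.aeval_X _ i), MvPolynomial.smul_eq_C_mul, map_mul]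
        linear_combination (algebraMap T A (MvPolynomial.X i)) * h1
    intro a
    obtain ⟨n, F, hF⟩ := IsLocalization.Away.surj (MvPolynomial.C D : T) a
    obtain ⟨w, hw⟩ := key F
    obtain ⟨v, hv⟩ := (IsLocalization.Away.algebraMap_isUnit (S := A) (MvPolynomial.C D : T)).exists_right_inv
    refine ⟨w * v ^ n, ?_⟩
    have h1 : algebraMap T A (MvPolynomial.C D) * σA v = 1 := by rw [← hC, ← map_mul, hv, map_one]
    rw [map_mul, map_pow, hw, ← hF, mul_assoc, ← mul_pow, h1, one_pow, mul_one]
  have hnew : ((algebraMap B B').comp (MvPolynomial.aeval (R := R) fun i => d i • b i).toRingHom).QuasiFinite := by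
    have e : ((algebraMap B B').comp (MvPolynomial.aeval (R := R) fun i => d i • b i).toRingHom) =
        oldA.comp (σA.comp (algebraMap T A)) := by
      rw [hσAc]
      refine MvPolynomial.ringHom_ext (fun r => ?_) fun i => ?_
      · show algebraMap B B' (MvPolynomial.aeval (fun i => d i • b i) (MvPolynomial.C r)) =
          oldA (algebraMap T A (MvPolynomial.aeval (fun i => d i • MvPolynomial.X i) (MvPolynomial.C r)))
        rw [IsLocalization.Away.lift_eq, MvPolynomial.aeval_C, MvPolynomial.aeval_C]
        exact congrArg (algebraMap B B') ((MvPolynomial.aeval (R := R) b).commutes r).symm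
      · show algebraMap B B' (MvPolynomial.aeval (fun i => d i • b i) (MvPolynomial.X i)) =
          oldA (algebraMap T A (MvPolynomial.aeval (fun i => d i • MvPolynomial.X i) (MvPolynomial.X i)))
        rw [IsLocalization.Away.lift_eq, MvPolynomial.aeval_X, MvPolynomial.aeval_X]
        refine congrArg (algebraMap B B') ?_
        show d i • b i = MvPolynomial.aeval b (d i • MvPolynomial.X i : T)
        rw [map_smul, MvPolynomial.aeval_X]
    rw [e]
    exact holdA.comp ((RingHom.QuasiFinite.of_finite (RingHom.Finite.of_surjective σA hσA)).comp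
      (RingHom.QuasiFinite.holdsForLocalizationAway (R := T) A (MvPolynomial.C D)))
  have e : (MvPolynomial.aeval (R := R) fun i => Polynomial.aeval (d i • b i) (q i)).toRingHom =
      (MvPolynomial.aeval (R := R) fun i => d i • b i).toRingHom.comp
        (MvPolynomial.aeval (R := R) fun i => Polynomial.aeval (MvPolynomial.X (R := R) i) (q i)).toRingHom := by
    refine MvPolynomial.ringHom_ext (fun r => ?_) fun i => ?_
    · simp
    · simp [← Polynomial.aeval_algHom_apply]
  show ((algebraMap B B').comp _).QuasiFinite
  rw [e, ← RingHom.comp_assoc]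
  refine hnew.comp (RingHom.QuasiFinite.of_finite (finite_substitute q hqm fun i h0 => ?_))
  have h1 := Polynomial.eq_one_of_monic_natDegree_zero (hqm i) h0
  refine P.isPrime.ne_top ((Ideal.eq_top_iff_one _).2 ?_)
  have h2 := hqP i
  rwa [h1, map_one] at h2

end Groth.Agent.QuasiSect
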