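import Groth.Agent.QuasiSect.Alg
import Groth.Agent.QuasiSect.Split
import Groth.Agent.UnivOpen.Normal.QFAffineSpace
import Groth.Agent.AlgSpPts.Sep
import Groth.Agent.Synt29.Standard
import Groth.Prelude.Def_Flat
import Mathlib.RingTheory.RingHom.FinitePresentation

/-!
# Quasi-sections through a point, étale locally
-/

set_option autoImplicit false
set_option linter.style.haveILetI false
set_option backward.isDefEq.respectTransparency.types false

universe u

open AlgebraicGeometry CategoryTheory Limits TensorProduct Topology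

namespace Groth.Agent.QuasiSect

theorem residueFieldMap_bijective_of_isPreimmersion {X Y : Scheme.{u}} (f : X ⟶ Y) [IsPreimmersion f] (x : X) :
    Function.Bijective (f.residueFieldMap x).hom := by
  refine ⟨(f.residueFieldMap x).hom.injective, fun a => ?_⟩
  obtain ⟨b, rfl⟩ := X.residue_surjective x a
  obtain ⟨c, rfl⟩ := f.stalkMap_surjective x b
  exact ⟨Y.residue (f x) c, congrArg (fun m : Y.presheaf.stalk (f x) ⟶ X.residueField x => m c) (Scheme.residue_residueFieldMap f x)⟩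

theorem exists_dim_nat {k A : Type u} [Field k] [CommRing A] [Algebra k A] [Algebra.FiniteType k A] [Nontrivial A] :
    ∃ m : ℕ, ringKrullDim A = m := by
  obtain ⟨m, ψ, hinj, hfin⟩ := exists_finite_inj_algHom_of_fg k A
  refine ⟨m, ?_⟩
  letI := ψ.toRingHom.toAlgebra
  haveI : Module.Finite (MvPolynomial (Fin m) k) A := hfin
  haveI : FaithfulSMul (MvPolynomial (Fin m) k) A := (faithfulSMul_iff_algebraMap_injective _ _).mpr hinj
  rw [Groth.Agent.VarDim.ringKrullDim_eq_of_isIntegral (R := MvPolynomial (Fin m) k),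
    MvPolynomial.ringKrullDim_of_isNoetherianRing, ringKrullDim_eq_zero_of_field, zero_add]
  simp

theorem main (X S : Scheme.{u}) (f : X ⟶ S) [LocallyOfFinitePresentation f]
    (s : S) (x : X) (hxs : f.base x = s) (hx : IsClosed ((Subtype.val : ↥(f.base ⁻¹' {s}) → X) ⁻¹' {x}))
    (Z : Set ↥(f.base ⁻¹' {s})) (hZ : Z ∈ irreducibleComponents ↥(f.base ⁻¹' {s})) (hxZ : x ∈ (Subtype.val '' Z))
    (z : X) (hz : z ∈ Subtype.val '' Z ∧ Subtype.val '' Z ⊆ closure {z}) (hopen : EGA43.IsUnivOpenAt f z)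
    (hdim : FlatMor.localDim ↥(f.base ⁻¹' {s}) ⟨x, hxs⟩ = topologicalKrullDim ↥Z) :
    ∃ (S' S'' : Scheme.{u}) (_ : IsAffine S') (w : S' ⟶ S) (π : S'' ⟶ S') (h : S'' ⟶ X),
      Etale w ∧ IsFinite π ∧ Surjective π ∧ LocallyOfFinitePresentation π ∧ h ≫ f = π ≫ w ∧
      ∃ s'' : S'', (π ≫ w).base ⁻¹' {s} = {s''} ∧ h.base s'' = x ∧ IsIso (h.residueFieldMap s'') := by
  -- the generic point
  obtain ⟨⟨⟨z₀, hz₀s⟩, hz₀Z, (hz₀ : z₀ = z)⟩, hzcl⟩ := hz
  subst hz₀
  have hzx : z₀ ⤳ x := specializes_iff_mem_closure.mpr (hzcl hxZ)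
  have hZc : IsClosed Z := isClosed_of_mem_irreducibleComponents Z hZ
  have hgen : IsGenericPoint (⟨z₀, hz₀s⟩ : ↥(f.base ⁻¹' {s})) Z := by
    refine Set.Subset.antisymm (closure_minimal (Set.singleton_subset_iff.mpr hz₀Z) hZc) fun w hw => ?_
    exact specializes_iff_mem_closure.1 (IsInducing.subtypeVal.specializes_iff.1
      (specializes_iff_mem_closure.2 (hzcl ⟨w, hw, rfl⟩)))
  have hzm : FibDim.FibMax f z₀ := fun z' h1 h2 => congrArg Subtype.val
    (FDescent.eq_of_specializes_of_mem hZ hgen (y := ⟨z', h2.trans hz₀s⟩) (IsInducing.subtypeVal.specializes_iff.1 h1))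
  have hrdZ : ((FibDim.rd f z₀ : ℕ∞) : WithBot ℕ∞) = topologicalKrullDim ↥Z := by
    rw [← FibDim.dim_closure_inter f z₀]
    have hset : Subtype.val '' Z = closure {z₀} ∩ f ⁻¹' {f z₀} := by
      ext w
      constructor
      · rintro ⟨w', hw', rfl⟩
        exact ⟨hzcl ⟨w', hw', rfl⟩, (w'.2 : f w'.1 = s).trans (hz₀s : f z₀ = s).symm⟩
      · rintro ⟨h1, h2⟩
        refine ⟨⟨w, (h2 : f w = f z₀).trans hz₀s⟩, ?_, rfl⟩
        exact (IsInducing.subtypeVal.specializes_iff.1
          (specializes_iff_mem_closure.2 h1 : (⟨z₀, hz₀s⟩ : ↥(f.base ⁻¹' {s})).1 ⤳ _)).mem_closed hZc hz₀Z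
    exact (((IsEmbedding.subtypeVal).homeomorphImage Z).trans (Homeomorph.setCongr hset)).isHomeomorph.topologicalKrullDim_eq.symm
  -- affine charts
  obtain ⟨U₀, hU₀⟩ : ∃ U₀ : {U : TopologicalSpace.Opens ↥(f.base ⁻¹' {s}) // (⟨x, hxs⟩ : ↥(f.base ⁻¹' {s})) ∈ U},
      topologicalKrullDim (U₀.1 : Set ↥(f.base ⁻¹' {s})) = topologicalKrullDim ↥Z := by
    haveI : Nonempty {U : TopologicalSpace.Opens ↥(f.base ⁻¹' {s}) // (⟨x, hxs⟩ : ↥(f.base ⁻¹' {s})) ∈ U} :=
      ⟨⟨⊤, trivial⟩⟩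
    obtain ⟨U₀, hU₀⟩ := ciInf_mem (fun U : {U : TopologicalSpace.Opens ↥(f.base ⁻¹' {s}) //
      (⟨x, hxs⟩ : ↥(f.base ⁻¹' {s})) ∈ U} => topologicalKrullDim (U.1 : Set ↥(f.base ⁻¹' {s})))
    exact ⟨U₀, hU₀.trans hdim⟩
  obtain ⟨O, hO, hOU⟩ := isOpen_induced_iff.1 U₀.1.2
  obtain ⟨U, hU, hsU, -⟩ := exists_isAffineOpen_mem_and_subset (x := s) (U := (⊤ : S.Opens)) trivial
  obtain ⟨V, hV, hxV, hVsub⟩ := exists_isAffineOpen_mem_and_subset (x := x) (U := ⟨O, hO⟩ ⊓ f ⁻¹ᵁ U)
    ⟨hOU.ge U₀.2, by show f x ∈ U; exact hxs.symm ▸ hsU⟩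
  have hVU : V ≤ f ⁻¹ᵁ U := fun w hw => (hVsub hw).2
  let R := Γ(S, U)
  let B := Γ(X, V)
  letI : Algebra R B := (f.appLE U V hVU).hom.toAlgebra
  haveI : Algebra.FinitePresentation R B := f.finitePresentation_appLE hU hV hVU
  have hsq : str R B ≫ hU.fromSpec = hV.fromSpec ≫ f := IsAffineOpen.SpecMap_appLE_fromSpec f hU hV hVU
  obtain ⟨P, hP⟩ : x ∈ Set.range hV.fromSpec := hV.range_fromSpec.ge hxV
  let p : Spec (CommRingCat.of R) := str R B P
  have hps : hU.fromSpec p = s := by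
    rw [← Scheme.Hom.comp_apply, hsq, Scheme.Hom.comp_apply, hP]; exact hxs
  have hmaxP : ∀ Q : PrimeSpectrum B, P.asIdeal ≤ Q.asIdeal →
      PrimeSpectrum.comap (algebraMap R B) Q = PrimeSpectrum.comap (algebraMap R B) P → Q = P := by
    intro Q hPQ hQ
    apply hV.fromSpec.isOpenEmbedding.injective
    have h1 : x ⤳ hV.fromSpec Q := hP ▸ ((PrimeSpectrum.le_iff_specializes P Q).1 hPQ).map hV.fromSpec.continuous
    have h2 : f (hV.fromSpec Q) = s := by
      rw [← Scheme.Hom.comp_apply, ← hsq, Scheme.Hom.comp_apply, show str R B Q = p from hQ, hps]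
    exact ((IsInducing.subtypeVal.specializes_iff (x := (⟨x, hxs⟩ : ↥(f.base ⁻¹' {s}))) (y := ⟨_, h2⟩)).1 h1
      |>.mem_closed hx (show x ∈ ({x} : Set X) from rfl)).trans hP.symm
  -- the dimension
  obtain ⟨m, hm⟩ : ∃ m : ℕ, ringKrullDim ((PrimeSpectrum.comap (algebraMap R B) P).asIdeal.Fiber B) = m := by
    haveI : Nontrivial ((PrimeSpectrum.comap (algebraMap R B) P).asIdeal.Fiber B) := by
      refine ⟨0, 1, fun e => (PrimeSpectrum.preimageHomeomorphFiber R B
        (PrimeSpectrum.comap (algebraMap R B) P) ⟨P, rfl⟩).isPrime.ne_top ((Ideal.eq_top_iff_one _).mpr ?_)⟩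
      exact e ▸ Submodule.zero_mem _
    exact exists_dim_nat (k := (PrimeSpectrum.comap (algebraMap R B) P).asIdeal.ResidueField)
  have hmZ : ((m : ℕ∞) : WithBot ℕ∞) = topologicalKrullDim ↥Z := by
    rw [show ((m : ℕ∞) : WithBot ℕ∞) = (m : WithBot ℕ∞) from rfl, ← hm,
      ← FibDim.topologicalKrullDim_fib (B := B) (PrimeSpectrum.comap (algebraMap R B) P)]
    let VF : TopologicalSpace.Opens ↥(f.base ⁻¹' {s}) := ⟨Subtype.val ⁻¹' (V : Set X), V.2.preimage continuous_subtype_val⟩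
    have e : topologicalKrullDim ↥(FibDim.fib (B := B) (PrimeSpectrum.comap (algebraMap R B) P)) =
        topologicalKrullDim ↥(VF : Set ↥(f.base ⁻¹' {s})) := by
      refine ((hV.fromSpec.isOpenEmbedding.isEmbedding.homeomorphImage _).trans ((Homeomorph.setCongr ?_).trans
        (IsEmbedding.subtypeVal.homeomorphImage _).symm)).isHomeomorph.topologicalKrullDim_eq
      ext w
      constructor
      · rintro ⟨Q, hQ, rfl⟩
        refine ⟨⟨_, ?_⟩, hV.range_fromSpec.le ⟨Q, rfl⟩, rfl⟩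
        show f (hV.fromSpec Q) = s
        rw [← Scheme.Hom.comp_apply, ← hsq, Scheme.Hom.comp_apply, show str R B Q = p from hQ, hps]
      · rintro ⟨⟨w', hw's⟩, hw'V, rfl⟩
        obtain ⟨Q, rfl⟩ : w' ∈ Set.range hV.fromSpec := hV.range_fromSpec.ge hw'V
        refine ⟨Q, hU.fromSpec.isOpenEmbedding.injective (show hU.fromSpec (str R B Q) = hU.fromSpec p from ?_), rfl⟩
        rw [hps, ← Scheme.Hom.comp_apply, hsq, Scheme.Hom.comp_apply]
        exact hw's
    rw [e]
    refine le_antisymm (hU₀ ▸ ?_) (hdim ▸ iInf_le_of_le ⟨VF, hxV⟩ le_rfl)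
    exact IsInducing.topologicalKrullDim_le (f := Set.inclusion (fun w hw => hOU.le (hVsub hw).1))
      (IsEmbedding.inclusion _).isInducing
  -- parameters
  obtain ⟨c, g, hc, hg, hqf⟩ := exists_parameters (R := R) P hmaxP hm
  let σ := ULift.{u} (Fin m)
  let T := MvPolynomial σ R
  let ψ : T →ₐ[R] B := MvPolynomial.aeval fun i : σ => c i.down
  let Bg := Localization.Away g
  let uAlg : T →+* Bg := (algebraMap B Bg).comp ψ.toRingHom
  have huqf : uAlg.QuasiFinite := by
    have e : ψ = (MvPolynomial.aeval (R := R) c).comp (MvPolynomial.renameEquiv R Equiv.ulift.{u}).toAlgHom :=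
      MvPolynomial.algHom_ext fun i => by simp [ψ, MvPolynomial.renameEquiv]
    show ((algebraMap B Bg).comp ψ.toRingHom).QuasiFinite
    rw [e]
    exact hqf.comp (RingHom.QuasiFinite.of_finite (RingHom.Finite.of_surjective
      (MvPolynomial.renameEquiv R Equiv.ulift.{u}).toRingEquiv.toRingHom (MvPolynomial.renameEquiv R Equiv.ulift.{u}).surjective))
  have huC : uAlg.comp MvPolynomial.C = algebraMap R Bg := by
    refine RingHom.ext fun r => ?_
    show algebraMap B Bg (ψ (MvPolynomial.C r)) = _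
    rw [show ψ (MvPolynomial.C r) = algebraMap R B r from ψ.commutes r, ← IsScalarTower.algebraMap_apply]
  haveI : IsOpenImmersion (str B Bg) := IsOpenImmersion.of_isLocalization g
  let j : Spec (CommRingCat.of Bg) ⟶ X := str B Bg ≫ hV.fromSpec
  let f' := str R Bg
  have hjf : j ≫ f = f' ≫ hU.fromSpec := by
    have : f' = str B Bg ≫ str R B := by
      rw [← Spec.map_comp, ← CommRingCat.ofHom_comp, ← IsScalarTower.algebraMap_eq]
    rw [this, Category.assoc, Category.assoc, hsq]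
  haveI : Algebra.FinitePresentation B Bg := inferInstance
  haveI : Algebra.FinitePresentation R Bg := Algebra.FinitePresentation.trans R B Bg
  haveI hf'fp : LocallyOfFinitePresentation f' :=
    HasRingHomProperty.Spec_iff.mpr (RingHom.finitePresentation_algebraMap.mpr inferInstance)
  let e := AffineSpace.SpecIso σ (CommRingCat.of R)
  let uS := Spec.map (CommRingCat.ofHom uAlg)
  let u : Spec (CommRingCat.of Bg) ⟶ 𝔸(σ; Spec (CommRingCat.of R)) := uS ≫ e.inv
  have huf : u ≫ (𝔸(σ; Spec (CommRingCat.of R)) ↘ Spec (CommRingCat.of R)) = f' := by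
    rw [Category.assoc, AffineSpace.SpecIso_inv_over, ← Spec.map_comp, ← CommRingCat.ofHom_comp, huC]
  haveI : LocallyQuasiFinite uS := HasRingHomProperty.Spec_iff.mpr huqf
  haveI : LocallyOfFiniteType uS := HasRingHomProperty.Spec_iff.mpr
    (RingHom.FiniteType.of_comp_finiteType (f := MvPolynomial.C) (g := uAlg)
      (huC ▸ RingHom.finiteType_algebraMap.mpr inferInstance))
  haveI : LocallyOfFinitePresentation (u ≫ (𝔸(σ; Spec (CommRingCat.of R)) ↘ Spec (CommRingCat.of R))) := by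
    rw [huf]; infer_instance
  haveI : LocallyOfFinitePresentation u :=
    AlgSpPts.locallyOfFinitePresentation_of_comp u (𝔸(σ; Spec (CommRingCat.of R)) ↘ Spec (CommRingCat.of R))
  -- points
  obtain ⟨x', hx'⟩ : P ∈ Set.range (str B Bg) :=
    (PrimeSpectrum.localization_away_comap_range Bg g).ge hg
  have hjx : j x' = x := by rw [Scheme.Hom.comp_apply, hx', hP]
  obtain ⟨z', hz'⟩ : z₀ ∈ Set.range j := hzx.mem_open j.isOpenEmbedding.isOpen_range ⟨x', hjx⟩
  have hfj : ∀ a, hU.fromSpec (f' a) = f (j a) := fun a => by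
    rw [← Scheme.Hom.comp_apply, ← hjf, Scheme.Hom.comp_apply]
  have hfz : f' z' = f' x' := hU.fromSpec.isOpenEmbedding.injective (by
    rw [hfj, hfj, hz', hjx]; exact hz₀s.trans hxs.symm)
  have hzx' : z' ⤳ x' := j.isOpenEmbedding.isInducing.specializes_iff.1 (by rw [hz', hjx]; exact hzx)
  have hzm' : FibDim.FibMax f' z' := fun w h1 h2 => j.isOpenEmbedding.injective
    (hz'.symm ▸ hzm (j w) (hz' ▸ h1.map j.continuous) (by rw [← hz', ← hfj, ← hfj, h2]))
  have hrd : FibDim.rd f' z' = m := by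
    rw [← Synt29.rd_comp_openImmersion f f' j hU.fromSpec hjf z', hz']
    exact_mod_cast hrdZ.trans hmZ.symm
  have hopen' : EGA43.IsUnivOpenAt f' z' := by
    have h1 : EGA43.IsUnivOpenAt (f' ≫ hU.fromSpec) z' := by
      rw [← hjf]
      exact QHomeo.univOpenAt_comp ((UnivOpen.universallyOpen_iff_forall j).1 inferInstance z')
        (show EGA43.IsUnivOpenAt f (j z') by rw [hz']; exact hopen)
    have sq : IsPullback (𝟙 _) (f' ≫ 𝟙 _) (f' ≫ hU.fromSpec) hU.fromSpec :=
      (IsPullback.of_horiz_isIso ⟨by simp⟩ : IsPullback (𝟙 _) f' f' (𝟙 _)).paste_vert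
        (IsKernelPair.id_of_mono hU.fromSpec)
    rw [Category.comp_id] at sq
    exact QHomeo.univOpenAt_of_isPullback h1 sq z' rfl
  have huS : EGA43.IsUnivOpenAt uS x' := by
    have h1 := UnivOpen.isUnivOpenAt_affineSpace_of_generic u huf hzx' hfz hzm' hrd hopen'
    have h2 := QHomeo.univOpenAt_comp h1 ((UnivOpen.universallyOpen_iff_forall e.hom).1 inferInstance _)
    rwa [Category.assoc, Iso.inv_hom_id, Category.comp_id] at h2
  -- the slice
  letI : Algebra T R := (MvPolynomial.aeval fun _ : σ => (0 : R)).toRingHom.toAlgebra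
  letI : Algebra T Bg := uAlg.toAlgebra
  let C := R ⊗[T] Bg
  let inR : Spec (CommRingCat.of C) ⟶ Spec (CommRingCat.of Bg) :=
    Spec.map (CommRingCat.ofHom (Algebra.TensorProduct.includeRight : Bg →ₐ[T] C).toRingHom)
  have hsqC : IsPullback inR (str R C) uS (str T R) := isPullback_tensor T R Bg
  haveI : Algebra.QuasiFinite T Bg := huqf
  haveI : Algebra.FinitePresentation T Bg := by
    haveI : LocallyOfFinitePresentation uS := by
      rw [show uS = u ≫ e.hom by simp [u]]; infer_instance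
    exact RingHom.finitePresentation_algebraMap.mp (HasRingHomProperty.Spec_iff.mp this)
  obtain ⟨w₀, hw₁, hw₂⟩ := Scheme.Pullback.exists_preimage_pullback (f := uS) (g := str T R) x' p (by
    refine PrimeSpectrum.ext (Ideal.ext fun F => ?_)
    show algebraMap B Bg (ψ F) ∈ x'.asIdeal ↔ algebraMap T R F ∈ p.asIdeal
    have hx'' : x'.asIdeal.comap (algebraMap B Bg) = P.asIdeal := congrArg PrimeSpectrum.asIdeal hx'
    rw [← Ideal.mem_comap, hx'']
    show ψ F ∈ P.asIdeal ↔ algebraMap R B (algebraMap T R F) ∈ P.asIdeal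
    rw [← Ideal.Quotient.eq_zero_iff_mem, ← Ideal.Quotient.eq_zero_iff_mem]
    have e1 : (Ideal.Quotient.mkₐ R P.asIdeal).comp ψ =
        ((Ideal.Quotient.mkₐ R P.asIdeal).comp (Algebra.ofId R B)).comp (MvPolynomial.aeval fun _ : σ => (0 : R)) :=
      MvPolynomial.algHom_ext fun i => by
        simp [ψ, Ideal.Quotient.eq_zero_iff_mem.2 (hc i.down)]
    rw [show Ideal.Quotient.mk P.asIdeal (ψ F) = Ideal.Quotient.mk P.asIdeal (algebraMap R B (algebraMap T R F)) from
      AlgHom.congr_fun e1 F])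
  let q := hsqC.isoPullback.inv w₀
  have hq1 : inR q = x' := by rw [← Scheme.Hom.comp_apply, IsPullback.isoPullback_inv_fst, hw₁]
  have hq2 : str R C q = p := by rw [← Scheme.Hom.comp_apply, IsPullback.isoPullback_inv_snd, hw₂]
  obtain ⟨S', S'', hS', w, π, h, hw, hπ1, hπ2, hπ3, hh, s'', hs1, hs2, hs3⟩ :=
    exists_piece (R := R) (C := C) q (QHomeo.univOpenAt_of_isPullback huS hsqC q hq1)
  let h₀ : Spec (CommRingCat.of C) ⟶ X := inR ≫ j
  haveI : IsClosedImmersion inR := by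
    haveI : IsClosedImmersion (str T R) := IsClosedImmersion.spec_of_surjective _ fun r => ⟨MvPolynomial.C r, MvPolynomial.aeval_C _ r⟩
    exact MorphismProperty.of_isPullback hsqC.flip inferInstance
  have hh₀ : h₀ ≫ f = str R C ≫ hU.fromSpec := by
    rw [Category.assoc, hjf, ← reassoc_of% (show inR ≫ f' = str R C from ?_)]
    rw [← huf, ← Category.assoc]
    show (inR ≫ uS ≫ e.inv) ≫ _ = _
    rw [Category.assoc, Category.assoc, AffineSpace.SpecIso_inv_over, hsqC.w_assoc, ← Spec.map_comp]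
    rw [show CommRingCat.ofHom (MvPolynomial.C : R →+* T) ≫ CommRingCat.ofHom (algebraMap T R) = 𝟙 _ from
      CommRingCat.hom_ext (RingHom.ext fun r => MvPolynomial.aeval_C _ r), Spec.map_id, Category.comp_id]
  refine ⟨S', S'', hS', w ≫ hU.fromSpec, π, h ≫ h₀, inferInstance, hπ1, hπ2, hπ3, ?_, s'', ?_, ?_, ?_⟩
  · rw [Category.assoc, hh₀, reassoc_of% hh]
  · rw [← hs1, hq2, ← hps]
    ext a
    simp only [Set.mem_preimage, Set.mem_singleton_iff]
    rw [show (π ≫ w ≫ hU.fromSpec).base a = hU.fromSpec ((π ≫ w).base a) from rfl]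
    exact hU.fromSpec.isOpenEmbedding.injective.eq_iff
  · show (h ≫ h₀) s'' = x
    rw [Scheme.Hom.comp_apply, show h s'' = q from hs2, Scheme.Hom.comp_apply, hq1, hjx]
  · rw [Scheme.residueFieldMap_comp]
    haveI : IsIso (h₀.residueFieldMap (h s'')) :=
      (ConcreteCategory.isIso_iff_bijective _).2 (residueFieldMap_bijective_of_isPreimmersion h₀ _)
    haveI : IsIso (h.residueFieldMap s'') := hs3
    exact @IsIso.comp_isIso _ _ _ _ _ _ _ ((ConcreteCategory.isIso_iff_bijective _).2 (residueFieldMap_bijective_of_isPreimmersion h₀ (h s''))) hs3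

end Groth.Agent.QuasiSect
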