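import Groth.Agent.QuasiSect.Main
import Groth.Agent.RedHomogTop.Components
import Groth.Agent.FlatDense.Basic
import Groth.Agent.GrpSchLib.FieldDim
import Groth.Agent.FibDim.Basic
import Groth.Agent.UnivOpen.Criterion

/-!
# Quasi-sections translating finitely many points of a fibre into an open subset
-/

set_option autoImplicit false
set_option linter.style.haveILetI false
set_option backward.isDefEq.respectTransparency.types false

universe u

open CategoryTheory CategoryTheory.Limits MonoidalCategory CartesianMonoidalCategory MonObj GrpObj AlgebraicGeometry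
open Groth.Agent.GrpSchLib
open scoped CategoryTheory.Obj

namespace Groth.Agent.QuasiSect.Translate

section Field

variable {k : Type u} [Field k] {G X : Over (Spec (CommRingCat.of k))} [GrpObj G] (a : AlgGrp.Action G X)
  [LocallyOfFiniteType G.hom] [LocallyOfFiniteType X.hom]

/-- Over a field, a closed point of the neutral component moves given closed points into a dense open. -/
theorem exists_good_closed (hΦ : Surjective (lift a.act (snd G X)).left) (W : G.left.Opens)
    (hW : η[G].left (IsLocalRing.closedPoint k) ∈ W) (U : X.left.Opens) (hU : Dense (U : Set X.left))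
    (A : Set X.left) (hA : A.Finite) (hAc : ∀ x ∈ A, IsClosed ({x} : Set X.left)) :
    ∃ (g₀ g : G.left), IsMaxPt g₀ ∧ g₀ ⤳ g ∧ g₀ ∈ W ∧ IsClosed ({g} : Set G.left) ∧ g ∈ W ∧
      ∀ p : (G ⊗ X).left, (fst G X).left p = g → (snd G X).left p ∈ A → a.act.left p ∈ U := by
  haveI : IsLocallyNoetherian G.left := LocallyOfFiniteType.isLocallyNoetherian G.hom
  haveI : IsLocallyNoetherian X.left := LocallyOfFiniteType.isLocallyNoetherian X.hom
  haveI : JacobsonSpace G.left := LocallyOfFiniteType.jacobsonSpace G.hom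
  obtain ⟨g₀, hg₀, hg₀e⟩ := exists_isMaxPt (η[G].left (IsLocalRing.closedPoint k))
  let K := AlgebraicClosure k
  let φ : k →+* K := algebraMap k K
  haveI : IsIntegralHom (Spec.map (CommRingCat.ofHom φ)) :=
    IsIntegralHom.SpecMap_iff.mpr (algebraMap_isIntegral_iff.mpr (Algebra.IsAlgebraic.isIntegral (K := k) (A := K)))
  haveI : Surjective (Spec.map (CommRingCat.ofHom φ)) := surjective_spec_map_field φ
  haveI : IsIntegralHom (bcProj G φ) := MorphismProperty.pullback_fst _ _ inferInstance
  haveI : IsIntegralHom (bcProj X φ) := MorphismProperty.pullback_fst _ _ inferInstance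
  haveI : Surjective (bcProj (G ⊗ X) φ) := MorphismProperty.pullback_fst _ _ inferInstance
  haveI : IsIntegralHom (bcProj (G ⊗ X) φ) := MorphismProperty.pullback_fst _ _ inferInstance
  obtain ⟨g', hg', hg'e, hg'p, hg'z⟩ := RedHomogTop.exists_bc_neutral (G := G) hg₀ hg₀e φ
  -- for each point of `A`, a closed set of bad points
  let bad : X.left → Set G.left := fun x => (fst G X).left '' ((snd G X).left ⁻¹' {x} ∩ a.act.left ⁻¹' (U : Set X.left)ᶜ)
  have hbad : ∀ x ∈ A, IsClosed (bad x) ∧ g₀ ∉ bad x := by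
    intro x hx
    constructor
    · haveI : IsFinite (X.left.fromSpecResidueField x ≫ X.hom) := by
        haveI : IsClosedImmersion (X.left.fromSpecResidueField x) := IsClosedImmersion.of_isPreimmersion _ (by
          rw [Scheme.range_fromSpecResidueField]; exact hAc x hx)
        rw [isFinite_iff_locallyOfFiniteType_of_jacobsonSpace]
        infer_instance
      let j : pullback G.hom (X.left.fromSpecResidueField x ≫ X.hom) ⟶ (G ⊗ X).left :=
        pullback.map _ _ _ _ (𝟙 _) (X.left.fromSpecResidueField x) (𝟙 _) (by simp) (by simp)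
      haveI : IsFinite (pullback.fst G.hom (X.left.fromSpecResidueField x ≫ X.hom)) :=
        MorphismProperty.pullback_fst _ _ inferInstance
      have hj : j ≫ (fst G X).left = pullback.fst G.hom (X.left.fromSpecResidueField x ≫ X.hom) :=
        (pullback.lift_fst _ _ _).trans (Category.comp_id _)
      have hr : Set.range j = (snd G X).left ⁻¹' {x} := by
        have h : Set.range j = pullback.fst G.hom X.hom ⁻¹' Set.range (𝟙 G.left : G.left ⟶ G.left) ∩
          pullback.snd G.hom X.hom ⁻¹' Set.range (X.left.fromSpecResidueField x) :=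
            Scheme.Pullback.range_map _ _ _ _ _ _ _ _ _
        rw [h, Scheme.range_fromSpecResidueField]
        exact Set.inter_eq_right.2 fun p _ => ⟨pullback.fst G.hom X.hom p, rfl⟩
      have e : bad x = pullback.fst G.hom (X.left.fromSpecResidueField x ≫ X.hom) ''
          (j ⁻¹' (a.act.left ⁻¹' (U : Set X.left)ᶜ)) := by
        rw [← hj]
        show _ '' _ = (fun w => (fst G X).left (j w)) '' _
        rw [← Set.image_image (fst G X).left j, Set.image_preimage_eq_range_inter, hr]
      rw [e]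
      exact (pullback.fst G.hom (X.left.fromSpecResidueField x ≫ X.hom)).isClosedMap _
        ((U.2.isClosed_compl.preimage a.act.left.continuous).preimage j.continuous)
    · rintro ⟨p, ⟨hp2, hpU⟩, hp1⟩
      obtain ⟨pb, hpb⟩ := (bcProj (G ⊗ X) φ).surjective p
      let F := Over.pullback (Spec.map (CommRingCat.ofHom φ))
      let μi := Functor.Monoidal.μIso F G X
      let p2 := μi.inv.left pb
      have hμ : RedHomogTop.projPair (G := G) (X := X) φ p2 = p := by
        rw [← hpb, RedHomogTop.projPair, Scheme.Hom.comp_apply]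
        congr 1
        rw [← left_comp_apply, show μi.inv ≫ Functor.LaxMonoidal.μ F G X = 𝟙 _ from μi.inv_hom_id]
        rfl
      let xb := (snd (bc G φ) (bc X φ)).left p2
      have hxb : bcProj X φ xb = x := by rw [← RedHomogTop.snd_projPair, hμ]; exact hp2
      have hxbc : IsClosed ({xb} : Set (bc X φ).left) := by
        refine isClosed_of_closure_subset fun w hw => ?_
        replace hw : xb ⤳ w := specializes_iff_mem_closure.mpr hw
        show w = xb
        refine eq_of_specializes_of_isIntegralHom (bcProj X φ) hw ?_ |>.symm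
        have := (hw.map (bcProj X φ).continuous).mem_closed (hAc x hx) (by rw [hxb]; rfl)
        rw [Set.mem_singleton_iff.1 this, hxb]
      haveI : LocallyOfFiniteType (bc X φ).hom :=
        inferInstanceAs (LocallyOfFiniteType (pullback.snd X.hom (Spec.map (CommRingCat.ofHom φ))))
      let x' : 𝟙_ (Over (Spec (CommRingCat.of K))) ⟶ bc X φ :=
        Over.homMk (pointOfClosedPoint (bc X φ).hom xb hxbc) (pointOfClosedPoint_comp (bc X φ).hom xb hxbc)
      obtain ⟨w, hw1, -⟩ := Scheme.Pullback.exists_preimage_pullback (f := (snd (bc G φ) (bc X φ)).left) (g := x'.left)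
        p2 (IsLocalRing.closedPoint K) (pointOfClosedPoint_apply (bc X φ).hom xb hxbc _).symm
      let T : Over (Spec (CommRingCat.of K)) :=
        Over.mk (pullback.snd (snd (bc G φ) (bc X φ)).left x'.left)
      let t₁ : T ⟶ bc G φ ⊗ bc X φ := Over.homMk (pullback.fst _ _) (by
        rw [← Over.w (snd (bc G φ) (bc X φ)), pullback.condition_assoc, Over.w x']
        exact Category.comp_id _)
      have ht : t₁ = (t₁ ≫ fst _ _) ≫ RedHomogTop.slice x' := by
        apply CartesianMonoidalCategory.hom_ext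
        · simp [RedHomogTop.slice]
        · simp only [RedHomogTop.slice, Category.assoc, lift_snd]
          rw [← Category.assoc, ← Category.assoc, toUnit_unique ((t₁ ≫ fst _ _) ≫ toUnit _) (toUnit T)]
          exact Over.OverMorphism.ext pullback.condition
      let gb := (t₁ ≫ fst _ _).left w
      have hgb : p2 = (RedHomogTop.slice (G := bc G φ) x').left gb := by
        rw [← left_comp_apply, ← ht]; exact hw1.symm
      have hgbp : bcProj G φ gb = g₀ := by
        rw [← hp1, ← hμ, RedHomogTop.fst_projPair, hgb, RedHomogTop.fst_slice]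
      have hgb' : gb = g' :=
        (eq_of_specializes_of_isIntegralHom (bcProj G φ) (hg'z gb (specializes_of_eq hgbp.symm))
          (hg'p.trans hgbp.symm)).symm
      have hmax : IsMaxPt (((RedHomogTop.abc a φ).orbitMap x').left g') :=
        (RedHomogTop.orbit_isMaxPt (RedHomogTop.abc a φ) hg' hg'e (RedHomogTop.surjective_bc a hΦ φ) x').1
      refine hpU ?_
      rw [← hμ, RedHomogTop.act_projPair, hgb, RedHomogTop.act_slice, hgb']
      exact FlatDense.mem_of_dense_of_max_scheme U hU (hmax.map (bcProj_generalizing φ))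
  let good : Set G.left := (W : Set G.left) ∩ connectedComponent (η[G].left (IsLocalRing.closedPoint k)) ∩
    (⋃ x ∈ A, bad x)ᶜ
  have hgood : IsOpen good := (W.2.inter (isOpen_connectedComponent _)).inter
    (hA.isClosed_biUnion fun x hx => (hbad x hx).1).isOpen_compl
  have hg₀W : g₀ ∈ W := hg₀e.mem_open W.2 hW
  have hne : g₀ ∈ good := by
    refine ⟨⟨hg₀W, ?_⟩, ?_⟩
    · rw [connectedComponent_eq_closure hg₀ hg₀e]; exact subset_closure rfl
    · simp only [Set.mem_compl_iff, Set.mem_iUnion, not_exists]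
      exact fun x hx => (hbad x hx).2
  obtain ⟨g, hg, hgc⟩ := nonempty_inter_closedPoints (Z := good) ⟨g₀, hne⟩ hgood.isLocallyClosed
  refine ⟨g₀, g, hg₀, ?_, hg₀W, hgc, hg.1.1, fun p hp1 hp2 => ?_⟩
  · have h := hg.1.2
    rw [connectedComponent_eq_closure hg₀ hg₀e] at h
    exact specializes_iff_mem_closure.mpr h
  · by_contra hpU
    exact hg.2 (Set.mem_biUnion hp2 ⟨p, ⟨rfl, hpU⟩, hp1⟩)

end Field

variable {S : Scheme.{u}} {G X : Over S} [GrpObj G] [LocallyOfFinitePresentation G.hom] (a : AlgGrp.Action G X)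

theorem map_bc_apply {Y Y' : Over S} (f : Y ⟶ Y') {S' : Scheme.{u}} (σ : S' ⟶ S) (z : (Red.bc σ Y).left) :
    pullback.fst Y'.hom σ (((Over.pullback σ).map f).left z) = f.left (pullback.fst Y.hom σ z) := by
  rw [← Scheme.Hom.comp_apply, ActBC.pullback_map_left_fst, Scheme.Hom.comp_apply]

theorem main
    (hGo : ∃ W : G.left.Opens, (∀ p : ↥(𝟙_ (Over S)).left, η[G].left.base p ∈ W) ∧ UniversallyOpen (W.ι ≫ G.hom))
    (hΦ : Surjective (lift a.act (snd G X)).left)
    (U : X.left.Opens) (s : S) (hft : LocallyOfFiniteType (X.hom.fiberToSpecResidueField s))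
    (hdense : X.hom.base ⁻¹' {s} ⊆ closure ((U : Set X.left) ∩ X.hom.base ⁻¹' {s}))
    (A : Set X.left) (hA : A.Finite) (hAs : A ⊆ X.hom.base ⁻¹' {s}) :
    ∃ (S' S'' : Scheme.{u}) (w : S' ⟶ S) (π : S'' ⟶ S') (h : Over.mk (π ≫ w) ⟶ G),
      Etale w ∧ IsFinite π ∧ Surjective π ∧ (∃ s₀ : S'', (π ≫ w).base ⁻¹' {s} = {s₀}) ∧
      ∀ z : ↥(X ⊗ Over.mk (π ≫ w)).left, (fst X (Over.mk (π ≫ w))).left.base z ∈ A →
        (lift (snd X (Over.mk (π ≫ w)) ≫ h) (fst X (Over.mk (π ≫ w))) ≫ a.act).left.base z ∈ U := by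
  obtain ⟨W, hW, hWo⟩ := hGo
  let σ : Spec (CommRingCat.of (S.residueField s)) ⟶ S := S.fromSpecResidueField s
  let Gs := Red.bc σ G
  let Xs := Red.bc σ X
  haveI : LocallyOfFiniteType Xs.hom := hft
  haveI : LocallyOfFiniteType Gs.hom := inferInstanceAs (LocallyOfFiniteType (pullback.snd G.hom σ))
  have hrangeσ : Set.range σ = {s} := Scheme.range_fromSpecResidueField s
  have hfstr : ∀ Y : Over S, Set.range (pullback.fst Y.hom σ) = Y.hom ⁻¹' {s} := fun Y => by
    rw [Scheme.Pullback.range_fst, hrangeσ]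
  have hfste : ∀ Y : Over S, Topology.IsEmbedding (pullback.fst Y.hom σ) := fun Y =>
    (Y.hom.fiberι s).isEmbedding
  -- the open of the fibre, and closed specializations of the points of `A`
  let Us : Xs.left.Opens := pullback.fst X.hom σ ⁻¹ᵁ U
  have hUs : Dense (Us : Set Xs.left) := by
    rw [dense_iff_closure_eq, Set.eq_univ_iff_forall]
    intro v
    show v ∈ closure (pullback.fst X.hom σ ⁻¹' (U : Set X.left))
    rw [(hfste X).isInducing.closure_eq_preimage_closure_image, Set.image_preimage_eq_inter_range, hfstr]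
    exact hdense ((hfstr X).le ⟨v, rfl⟩)
  haveI : JacobsonSpace ↥(pullback X.hom σ) := LocallyOfFiniteType.jacobsonSpace Xs.hom
  have hAc : ∀ x : A, ∃ v : Xs.left, IsClosed ({v} : Set Xs.left) ∧ x.1 ⤳ pullback.fst X.hom σ v := by
    intro x
    obtain ⟨v, hv⟩ := (hfstr X).ge (hAs x.2)
    obtain ⟨w, hw, hwc⟩ := nonempty_inter_closedPoints (Z := closure {v}) ⟨v, subset_closure rfl⟩
      isClosed_closure.isLocallyClosed
    refine ⟨w, hwc, ?_⟩
    rw [← hv]
    exact (specializes_iff_mem_closure.mpr hw).map (pullback.fst X.hom σ).continuous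
  choose cl hclc hcl using hAc
  haveI : Finite A := hA.to_subtype
  have hWs : η[Gs].left (IsLocalRing.closedPoint (S.residueField s)) ∈ pullback.fst G.hom σ ⁻¹ᵁ W := by
    show pullback.fst G.hom σ (η[Gs].left _) ∈ W
    rw [show η[Gs] = Functor.LaxMonoidal.ε (Over.pullback σ) ≫ (Over.pullback σ).map η[G] from rfl, left_comp_apply,
      map_bc_apply]
    exact hW _
  obtain ⟨g₀, g, hg₀, hg₀g, hg₀W, hgc, hgW, hgood⟩ := exists_good_closed (a.bc σ) (by
      let F := Over.pullback σ
      have e : lift (a.bc σ).act (snd (F.obj G) (F.obj X)) ≫ Functor.LaxMonoidal.μ F X X =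
          Functor.LaxMonoidal.μ F G X ≫ F.map (lift a.act (snd G X)) := by
        rw [← Functor.Monoidal.lift_μ, comp_lift_assoc, Functor.Monoidal.μ_snd, AlgGrp.Action.bc_act]
      have : Surjective (F.map (lift a.act (snd G X))).left :=
        MorphismProperty.baseChange_map (P := @Surjective) _ (lift a.act (snd G X)) hΦ
      have h1 : IsIso (Functor.LaxMonoidal.μ F G X).left := (Over.forget _).map_isIso _
      have h2 : IsIso (Functor.LaxMonoidal.μ F X X).left := (Over.forget _).map_isIso _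
      have h3 : Surjective ((lift (a.bc σ).act (snd (F.obj G) (F.obj X))).left ≫
          (Functor.LaxMonoidal.μ F X X).left) := by
        rw [← Over.comp_left, e, Over.comp_left]
        infer_instance
      exact (MorphismProperty.cancel_right_of_respectsIso (P := @Surjective) _ _).mp h3)
    (pullback.fst G.hom σ ⁻¹ᵁ W) hWs Us hUs (Set.range cl) (Set.finite_range cl)
    (by rintro _ ⟨x, rfl⟩; exact hclc x)
  -- data for the quasi-section
  let z₀ := pullback.fst G.hom σ g₀
  let xg := pullback.fst G.hom σ g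
  have hxs : G.hom.base xg = s := (hfstr G).le ⟨g, rfl⟩
  have hzs : G.hom.base z₀ = s := (hfstr G).le ⟨g₀, rfl⟩
  let eG : Gs.left ≃ₜ ↥(G.hom.base ⁻¹' {s}) := G.hom.fiberHomeo s
  have heG : ∀ v, (eG v).1 = pullback.fst G.hom σ v := fun v => rfl
  haveI : IsLocallyNoetherian Gs.left := LocallyOfFiniteType.isLocallyNoetherian Gs.hom
  let Z : Set ↥(G.hom.base ⁻¹' {s}) := eG '' closure {g₀}
  have hZ : Z ∈ irreducibleComponents ↥(G.hom.base ⁻¹' {s}) := by
    rw [show Z = closure {eG g₀} by rw [← Set.image_singleton, ← eG.image_closure]]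
    haveI : QuasiSober ↥(G.hom.base ⁻¹' {s}) := eG.symm.isClosedEmbedding.quasiSober
    exact FDescent.closure_singleton_mem_components fun w hw => by
      rw [← eG.apply_symm_apply w, hg₀ (eG.symm w) (by simpa using hw.map eG.symm.continuous)]
  have hxZ : xg ∈ Subtype.val '' Z := ⟨eG g, ⟨g, hg₀g.mem_closure, rfl⟩, rfl⟩
  have hz : z₀ ∈ Subtype.val '' Z ∧ Subtype.val '' Z ⊆ closure {z₀} := by
    refine ⟨⟨eG g₀, ⟨g₀, subset_closure rfl, rfl⟩, rfl⟩, ?_⟩
    rintro _ ⟨_, ⟨w, hw, rfl⟩, rfl⟩
    exact ((specializes_iff_mem_closure.mpr hw).map (pullback.fst G.hom σ).continuous).mem_closure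
  have hopen : EGA43.IsUnivOpenAt G.hom z₀ :=
    QHomeo.univOpenAt_of_comp (f := W.ι) (x := (⟨z₀, hg₀W⟩ : W.toScheme))
      ((UnivOpen.universallyOpen_iff_forall _).1 hWo _)
  have hfm : FibDim.FibMax G.hom z₀ := fun z' h1 h2 => by
    obtain ⟨v, rfl⟩ := (hfstr G).ge (show z' ∈ G.hom ⁻¹' {s} from h2.trans hzs)
    rw [hg₀ v ((hfste G).isInducing.specializes_iff.1 h1)]
  have hdim : FlatMor.localDim ↥(G.hom.base ⁻¹' {s}) ⟨xg, hxs⟩ = topologicalKrullDim ↥Z := by
    have h1 : topologicalKrullDim ↥Z = ((FibDim.rd G.hom z₀ : ℕ∞) : WithBot ℕ∞) := by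
      rw [← FibDim.dim_closure_inter G.hom z₀]
      refine ((Topology.IsEmbedding.subtypeVal.homeomorphImage Z).trans
        (Homeomorph.setCongr ?_)).isHomeomorph.topologicalKrullDim_eq
      ext w
      constructor
      · rintro ⟨w', hw', rfl⟩
        exact ⟨hz.2 ⟨w', hw', rfl⟩, (w'.2 : G.hom w'.1 = s).trans hzs.symm⟩
      · rintro ⟨hw1, hw2⟩
        obtain ⟨v, rfl⟩ := (hfstr G).ge (show w ∈ G.hom ⁻¹' {s} from (hw2 : G.hom w = G.hom z₀).trans hzs)
        exact ⟨eG v, ⟨v, ((hfste G).isInducing.specializes_iff.1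
          (specializes_iff_mem_closure.mpr hw1)).mem_closure, rfl⟩, rfl⟩
    obtain ⟨w, hw1, hw2, hw3, hw4⟩ := FibDim.exists_fibMax_generization G.hom xg
    have hwz : w = z₀ := by
      obtain ⟨v, rfl⟩ := (hfstr G).ge (show w ∈ G.hom ⁻¹' {s} from hw2.trans hxs)
      have hvm : IsMaxPt v := fun v' hv' => (hfste G).injective
        (hw3 _ (hv'.map (pullback.fst G.hom σ).continuous)
          (((hfstr G).le ⟨v', rfl⟩).trans ((hfstr G).le ⟨v, rfl⟩).symm))
      rw [hvm.eq uniComp hg₀ ((hfste G).isInducing.specializes_iff.1 hw1) hg₀g]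
    have key : ∀ (t : S) (ht : G.hom.base xg = t), FlatMor.localDim ↥(G.hom.base ⁻¹' {t}) ⟨xg, ht⟩ =
        FlatMor.fibreDimAt G.hom xg := by
      rintro t rfl
      rw [FlatMor.fibreDimAt, ← FibDim.localDim_homeomorph (G.hom.fiberHomeo (G.hom.base xg)) (G.hom.asFiber xg)]
      congr 1
      exact Subtype.ext (G.hom.fiberι_asFiber xg).symm
    rw [h1, ← hwz, ← hw4]
    exact key s hxs
  have hxc : IsClosed ((Subtype.val : ↥(G.hom.base ⁻¹' {s}) → G.left) ⁻¹' {xg}) := by
    rw [show (Subtype.val : ↥(G.hom.base ⁻¹' {s}) → G.left) ⁻¹' {xg} = eG '' {g} by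
      rw [Set.image_singleton]
      ext w
      exact ⟨fun h => Subtype.ext h, fun h => congrArg Subtype.val (Set.mem_singleton_iff.1 h)⟩]
    exact eG.isClosedMap _ hgc
  obtain ⟨S', S'', -, w, π, h, hw, hπ1, hπ2, -, hh, s'', hs1, hs2, -⟩ :=
    QuasiSect.main G.left S G.hom s xg hxs hxc Z hZ hxZ z₀ hz hopen hdim
  refine ⟨S', S'', w, π, Over.homMk h hh, hw, hπ1, hπ2, ⟨s'', hs1⟩, fun z hz => ?_⟩
  let T := Over.mk (π ≫ w)
  let hT : T ⟶ G := Over.homMk h hh
  let m : X ⊗ T ⟶ G ⊗ X := lift (snd X T ≫ hT) (fst X T)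
  let xA : A := ⟨_, hz⟩
  have hm2 : (snd G X).left (m.left z) = xA.1 := by rw [← left_comp_apply, lift_snd]
  have hm1 : (fst G X).left (m.left z) = xg := by
    rw [← left_comp_apply, lift_fst, left_comp_apply]
    have : (snd X T).left z ∈ (π ≫ w).base ⁻¹' {s} := by
      show T.hom ((snd X T).left z) = s
      rw [← Scheme.Hom.comp_apply, Over.w (snd X T), ← Over.w (fst X T), Scheme.Hom.comp_apply]
      exact hAs hz
    rw [hs1, Set.mem_singleton_iff] at this
    rw [this]
    exact hs2
  -- a specialisation over the closed point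
  show (m ≫ a.act).left z ∈ U
  rw [left_comp_apply]
  -- the point of the fibre of `G ⊗ X`
  obtain ⟨q, hq⟩ : m.left z ∈ Set.range (pullback.fst (G ⊗ X).hom σ) := by
    rw [hfstr]
    show (G ⊗ X).hom (m.left z) = s
    rw [← Over.w (fst G X), Scheme.Hom.comp_apply, hm1]
    exact hxs
  let F := Over.pullback σ
  let μi := Functor.Monoidal.μIso F G X
  let p := μi.inv.left q
  have hpq : (Functor.LaxMonoidal.μ F G X).left p = q := by
    rw [← left_comp_apply, show μi.inv ≫ Functor.LaxMonoidal.μ F G X = 𝟙 _ from μi.inv_hom_id]; rfl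
  have hp1 : pullback.fst G.hom σ ((fst Gs Xs).left p) = xg := by
    rw [← Functor.Monoidal.μ_fst F, left_comp_apply, hpq, map_bc_apply, hq, hm1]
  have hp2 : pullback.fst X.hom σ ((snd Gs Xs).left p) = xA.1 := by
    rw [← Functor.Monoidal.μ_snd F, left_comp_apply, hpq, map_bc_apply, hq, hm2]
  have hact : pullback.fst X.hom σ ((a.bc σ).act.left p) = a.act.left (m.left z) := by
    rw [AlgGrp.Action.bc_act, left_comp_apply, hpq, map_bc_apply, hq]
  -- specialise to the closed point `cl xA`
  have hsp : (snd Gs Xs).left p ⤳ cl xA := (hfste X).isInducing.specializes_iff.1 (by rw [hp2]; exact hcl xA)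
  obtain ⟨p', hp', hp'2⟩ : ∃ p', p ⤳ p' ∧ (fst Gs Xs).left p' = g ∧ (snd Gs Xs).left p' = cl xA := by
    haveI : IsClosedImmersion (Gs.left.fromSpecResidueField g) := IsClosedImmersion.of_isPreimmersion _ (by
      rw [Scheme.range_fromSpecResidueField]; exact hgc)
    haveI : IsFinite (Gs.left.fromSpecResidueField g ≫ Gs.hom) := by
      rw [isFinite_iff_locallyOfFiniteType_of_jacobsonSpace]
      infer_instance
    let j : pullback (Gs.left.fromSpecResidueField g ≫ Gs.hom) Xs.hom ⟶ (Gs ⊗ Xs).left :=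
      pullback.map _ _ _ _ (Gs.left.fromSpecResidueField g) (𝟙 _) (𝟙 _) (by simp) (by simp)
    have hr : Set.range j = (fst Gs Xs).left ⁻¹' {g} := by
      have h : Set.range j = pullback.fst Gs.hom Xs.hom ⁻¹' Set.range (Gs.left.fromSpecResidueField g) ∩
        pullback.snd Gs.hom Xs.hom ⁻¹' Set.range (𝟙 Xs.left : Xs.left ⟶ Xs.left) :=
          Scheme.Pullback.range_map _ _ _ _ _ _ _ _ _
      rw [h, Scheme.range_fromSpecResidueField]
      exact Set.inter_eq_left.2 fun v _ => ⟨pullback.snd Gs.hom Xs.hom v, rfl⟩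
    haveI : IsFinite (pullback.snd (Gs.left.fromSpecResidueField g ≫ Gs.hom) Xs.hom) :=
      MorphismProperty.pullback_snd _ _ inferInstance
    obtain ⟨b, hb⟩ : p ∈ Set.range j := hr.ge (show (fst Gs Xs).left p = g from (hfste G).injective (hp1.trans rfl))
    have hjs : ∀ v, (snd Gs Xs).left (j v) = pullback.snd (Gs.left.fromSpecResidueField g ≫ Gs.hom) Xs.hom v := fun v => by
      rw [← Scheme.Hom.comp_apply]
      exact congrArg (fun φ : pullback (Gs.left.fromSpecResidueField g ≫ Gs.hom) Xs.hom ⟶ Xs.left => φ v)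
        ((pullback.lift_snd _ _ _).trans (Category.comp_id _))
    obtain ⟨b', hbb', hb'⟩ := (pullback.snd (Gs.left.fromSpecResidueField g ≫ Gs.hom) Xs.hom).isClosedMap.specializingMap
      (show pullback.snd (Gs.left.fromSpecResidueField g ≫ Gs.hom) Xs.hom b ⤳ cl xA by rw [← hjs, hb]; exact hsp)
    exact ⟨j b', hb ▸ hbb'.map j.continuous, hr.le ⟨b', rfl⟩, by rw [hjs]; exact hb'⟩
  have hU := hgood p' hp'2.1 ⟨xA, hp'2.2.symm⟩
  rw [← hact]
  exact (hp'.map (a.bc σ).act.left.continuous).mem_open Us.2 hU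

end Groth.Agent.QuasiSect.Translate
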